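import Mathlib
import Cfsg.Agent.Lib.LieModel.Fields
import Cfsg.Agent.Lib.LieModel.U33.P.Main
import Cfsg.Agent.Lib.LieModel.Unit
import Cfsg.Agent.Lib.Unitary.Order
import Cfsg.Agent.Lib.Unitary.SU2
import Cfsg.Agent.Lib.Unitary.Center

/-! `Cfsg.PSU 3 F 3` as a permutation group on 28 points (generated) -/

set_option autoImplicit false
set_option maxRecDepth 100000
set_option Elab.async false

namespace CfsgLib.LieModel.U33

open CfsgLib.Comput CfsgLib.Classical CfsgLib.Recog Matrix

/-- the coding of vectors -/
abbrev C : Cd GF9 (Fin 3) := cd9 3 (finIdx 3)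

theorem good : C.Good :=
  cd9_good (show Enum 3 (finIdx 3 : ℕ → Fin 3) from ⟨by decide +kernel, by decide +kernel⟩)

/-- the table of points -/
noncomputable def T : ℕ := 0x1a019018818418218116015014814414214112812412212111811411211110a10910610501a019016015

theorem inj : ProjInj 28 (C.pt T) := Cd.projInj good (allLt_sound (by decide +kernel))

/-- the scalars -/
noncomputable def LS : List (List ℕ) := [[0x1000000000000000000000001, 0x1000000000000000000010000, 0x1000000000000000100000000, 0x1000000000001000000000000, 0x1000000010000000000000000, 0x1000100000000000000000000], [0x2000000000000000000000002, 0x2000000000000000000020000, 0x2000000000000000200000000, 0x2000000000002000000000000, 0x2000000020000000000000000, 0x2000200000000000000000000], [0x1000000000000000000010000, 0x2000000000000000000000002, 0x1000000000001000000000000, 0x2000000000000000200000000, 0x1000100000000000000000000, 0x2000000020000000000000000], [0x2000000000000000000010001, 0x3000000000000000000010002, 0x2000000000001000100000000, 0x3000000000001000200000000,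 0x2000100010000000000000000, 0x3000100020000000000000000], [0x3000000000000000000010002, 0x4000000000000000000020002, 0x3000000000001000200000000, 0x4000000000002000200000000, 0x3000100020000000000000000, 0x4000200020000000000000000], [0x2000000000000000000020000, 0x1000000000000000000000001, 0x2000000000002000000000000, 0x1000000000000000100000000, 0x2000200000000000000000000, 0x1000000010000000000000000], [0x3000000000000000000020001, 0x2000000000000000000010001, 0x3000000000002000100000000, 0x2000000000001000100000000, 0x3000200010000000000000000, 0x2000100010000000000000000], [0x4000000000000000000020002, 0x3000000000000000000020001, 0x4000000000002000200000000, 0x3000000000002000100000000, 0x4000200020000000000000000, 0x3000200010000000000000000]]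

theorem scal : C.Scal LS :=
  Cd.Scal.cons (c := C.fK 1) ((Cd.codes_of_entries good (M := [0x1, 0x4, 0x10, 0x40, 0x100, 0x400]) (by decide +kernel)).cols (by decide +kernel)) (
  Cd.Scal.cons (c := C.fK 2) ((Cd.codes_of_entries good (M := [0x2, 0x8, 0x20, 0x80, 0x200, 0x800]) (by decide +kernel)).cols (by decide +kernel)) (
  Cd.Scal.cons (c := C.fK 4) ((Cd.codes_of_entries good (M := [0x4, 0x2, 0x40, 0x20, 0x400, 0x200]) (by decide +kernel)).cols (by decide +kernel)) (
  Cd.Scal.cons (c := C.fK 5) ((Cd.codes_of_entries good (M := [0x5, 0x6, 0x50, 0x60, 0x500, 0x600]) (by decide +kernel)).cols (by decide +kernel)) (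
  Cd.Scal.cons (c := C.fK 6) ((Cd.codes_of_entries good (M := [0x6, 0xa, 0x60, 0xa0, 0x600, 0xa00]) (by decide +kernel)).cols (by decide +kernel)) (
  Cd.Scal.cons (c := C.fK 8) ((Cd.codes_of_entries good (M := [0x8, 0x1, 0x80, 0x10, 0x800, 0x100]) (by decide +kernel)).cols (by decide +kernel)) (
  Cd.Scal.cons (c := C.fK 9) ((Cd.codes_of_entries good (M := [0x9, 0x5, 0x90, 0x50, 0x900, 0x500]) (by decide +kernel)).cols (by decide +kernel)) (
  Cd.Scal.cons (c := C.fK 10) ((Cd.codes_of_entries good (M := [0xa, 0x9, 0xa0, 0x90, 0xa00, 0x900]) (by decide +kernel)).cols (by decide +kernel)) (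
  Cd.Scal.nil))))))))

noncomputable def A0 : Matrix (Fin 3) (Fin 3) GF9 := C.mat Fin.val [0x82a, 0x922, 0x8a2]
noncomputable def X0 : Matrix (Fin 3) (Fin 3) GF9 := C.mat Fin.val [0xa14, 0x981, 0x59]
noncomputable def Y0 : Matrix (Fin 3) (Fin 3) GF9 := C.mat Fin.val [0x416, 0x191, 0x928]
noncomputable def Z0 : Matrix (Fin 3) (Fin 3) GF9 := C.mat Fin.val [0x861, 0x219, 0x524]
theorem d0 : A0.det = 1 :=
  det_eq_one_of_comm (X := X0) (Y := Y0) (Z := Z0) (by decide +kernel) (by decide +kernel)
noncomputable def g0 : Cfsg.SU 3 GF9 3 := suOf (q := 3) card_GF9 A0 d0 (by decide +kernel)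

theorem c0 : Compat (C.pt T) A0 (permG 28 P.W 0) :=
  Cd.compat good (OK_nth P.W_ok 0) (L := [0x8000200000000000200020002, 0x6000000010002000000020001, 0x7000200010000000200000002, 0x6000100010002000000020000, 0x8000200000002000200000002, 0x6000000010002000100020000])
    ((Cd.codes_of_entries good (M := [0x82a, 0x189, 0x922, 0x588, 0x8a2, 0x198]) (by decide +kernel)).cols (by decide +kernel)) scal (allLt_sound (by decide +kernel))

noncomputable def A1 : Matrix (Fin 3) (Fin 3) GF9 := C.mat Fin.val [0x129, 0x660, 0x48a]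
noncomputable def X1 : Matrix (Fin 3) (Fin 3) GF9 := C.mat Fin.val [0xa88, 0x815, 0x851]
noncomputable def Y1 : Matrix (Fin 3) (Fin 3) GF9 := C.mat Fin.val [0x944, 0x864, 0x215]
noncomputable def Z1 : Matrix (Fin 3) (Fin 3) GF9 := C.mat Fin.val [0x161, 0x918, 0x819]
theorem d1 : A1.det = 1 :=
  det_eq_one_of_comm (X := X1) (Y := Y1) (Z := Z1) (by decide +kernel) (by decide +kernel)
noncomputable def g1 : Cfsg.SU 3 GF9 3 := suOf (q := 3) card_GF9 A1 d1 (by decide +kernel)

theorem c1 : Compat (C.pt T) A1 (permG 28 P.W 2) :=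
  Cd.compat good (OK_nth P.W_ok 2) (L := [0x6000000010000000200020001, 0x5000100000002000000010001, 0x6000100020001000200000000, 0x8000200020002000200000000, 0x7000100000002000000020002, 0x6000000020000000100020001])
    ((Cd.codes_of_entries good (M := [0x129, 0x485, 0x660, 0xaa0, 0x48a, 0x219]) (by decide +kernel)).cols (by decide +kernel)) scal (allLt_sound (by decide +kernel))

/-- the generators -/
noncomputable def g (m : ℕ) : Cfsg.SU 3 GF9 3 :=
  if m = 0 then g0 else g1

theorem hyp : ∀ m ∈ [0, 2], m < 255 ∧ Compat (C.pt T) (suMat 3 GF9 3 (g m)) (permG 28 P.W m) := by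
  simp only [List.forall_mem_cons]
  exact ⟨⟨by norm_num, c0⟩, ⟨by norm_num, c1⟩, List.forall_mem_nil _⟩

/-- the permutation group -/
noncomputable abbrev PG : Subgroup (Equiv.Perm (Fin 28)) := cl (permG 28 P.W) P.top

theorem card_PG : Nat.card PG = 6048 := P.card_perm

theorem card_G : Nat.card (Cfsg.PSU 3 GF9 3) = 6048 := by
  have := CfsgLib.Unitary.card_PSU (n := 3) (q := 3) card_GF9 (by norm_num)
  simp only [Finset.prod_range_succ, Finset.prod_range_zero] at this
  norm_num at this
  omega

theorem center_PG : Subgroup.center PG = ⊥ :=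
  center_eq_bot_of_chk P.W_ok (by norm_num) (P.inA_top P.E) (hs := P.L0.hs) (a := 0) (r := 5) (by decide +kernel)

theorem exists_iso : ∃ e : (Cfsg.PSU 3 GF9 3) ≃* PG, ∀ x ∈ cl (fun m => (g m, permG 28 P.W m)) P.top,
    (e (QuotientGroup.mk x.1) : Equiv.Perm (Fin 28)) = x.2 := by
  have : Finite (Cfsg.PSU 3 GF9 3) := Nat.finite_of_card_ne_zero (by rw [card_G]; norm_num)
  exact link_quot (suMat 3 GF9 3) inj hyp rfl center_PG (card_G.trans card_PG.symm).le

theorem iso {F : Type*} [Field F] [Fintype F] (hF : Fintype.card F = 9) :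
    Nonempty ((Cfsg.PSU 3 F 3) ≃* PG) := by
  obtain ⟨f, -⟩ := exists_iso
  let e : F ≃+* GF9 := FiniteField.ringEquivOfCardEq (hF.trans (card_GF9).symm)
  exact ⟨(CfsgLib.Unitary.psuMapEquiv e).trans f⟩

end CfsgLib.LieModel.U33
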